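import Mathlib.RingTheory.Bialgebra.Basic
import Mathlib.RingTheory.Flat.Basic
import Mathlib.RingTheory.TensorProduct.Basic
import Mathlib.LinearAlgebra.TensorProduct.RightExactness

/-!
# Hochschild cochains of a comodule in degrees `≤ 3`

`O` a bialgebra over `L` (only `Coalgebra` and `Δ 1 = 1 ⊗ 1` are used), `ρ : M →ₗ[L] M ⊗ O`.
`C^1 = M ⊗ O`, `C^2 = (M ⊗ O) ⊗ O`, `C^3 = ((M ⊗ O) ⊗ O) ⊗ O` and

* `d0 ρ m = ρ m - m ⊗ 1`,
* `d1 ρ y = (ρ ⊗ 1) y - (1 ⊗ Δ) y + y ⊗ 1`,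
* `d2 ρ z = (ρ ⊗ 1 ⊗ 1) z - (1 ⊗ Δ ⊗ 1) z + (1 ⊗ 1 ⊗ Δ) z - z ⊗ 1`.
-/

set_option autoImplicit false
set_option maxSynthPendingDepth 6
set_option synthInstance.maxHeartbeats 200000
set_option maxHeartbeats 800000

open TensorProduct

namespace K458.Coch

variable {L : Type*} [CommRing L] {O : Type*} [Ring O] [Bialgebra L O]
variable {M : Type*} [AddCommGroup M] [Module L M] {N : Type*} [AddCommGroup N] [Module L N]
variable {M' : Type*} [AddCommGroup M'] [Module L M']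

section Faces

variable (L O N) in
/-- `n ⊗ a ↦ n ⊗ Δ a` -/
noncomputable def dlt : N ⊗[L] O →ₗ[L] (N ⊗[L] O) ⊗[L] O :=
  (TensorProduct.assoc L N O O).symm.toLinearMap ∘ₗ (Coalgebra.comul (R := L) (A := O)).lTensor N

variable (L O N) in
/-- `n ↦ n ⊗ 1` -/
noncomputable def un : N →ₗ[L] N ⊗[L] O := (TensorProduct.mk L N O).flip 1

@[simp] theorem un_apply (n : N) : un L O N n = n ⊗ₜ[L] (1 : O) := rfl

theorem dlt_tmul (n : N) (a : O) :
    dlt L O N (n ⊗ₜ a) = (TensorProduct.assoc L N O O).symm (n ⊗ₜ Coalgebra.comul (R := L) a) := rfl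

theorem dlt_nat (f : M →ₗ[L] N) : dlt L O N ∘ₗ f.rTensor O = (f.rTensor O).rTensor O ∘ₗ dlt L O M := by
  refine TensorProduct.ext' fun m a => ?_
  simp only [LinearMap.comp_apply, LinearMap.rTensor_tmul, dlt_tmul]
  induction (Coalgebra.comul (R := L) a : O ⊗[L] O) using TensorProduct.induction_on with
  | zero => simp
  | tmul x y => simp
  | add x y hx hy => simp only [tmul_add, map_add, hx, hy]

theorem un_nat (f : M →ₗ[L] N) : un L O N ∘ₗ f = f.rTensor O ∘ₗ un L O M := by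
  refine LinearMap.ext fun m => ?_
  simp

theorem dlt_un : dlt L O N ∘ₗ un L O N = un L O (N ⊗[L] O) ∘ₗ un L O N := by
  refine LinearMap.ext fun n => ?_
  simp only [LinearMap.comp_apply, un_apply, dlt_tmul, Bialgebra.comul_one, Algebra.TensorProduct.one_def,
    TensorProduct.assoc_symm_tmul]

theorem dlt_dlt : dlt L O (N ⊗[L] O) ∘ₗ dlt L O N = (dlt L O N).rTensor O ∘ₗ dlt L O N := by
  refine TensorProduct.ext' fun n a => ?_
  simp only [LinearMap.comp_apply, dlt_tmul]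
  have key := LinearMap.congr_fun (Coalgebra.coassoc (R := L) (A := O)) a
  simp only [LinearMap.comp_apply, LinearEquiv.coe_coe] at key
  -- both sides are the image of `(Δ ⊗ 1) Δ a`, resp. `(1 ⊗ Δ) Δ a`
  have h1 : ∀ w : O ⊗[L] O, dlt L O (N ⊗[L] O) ((TensorProduct.assoc L N O O).symm (n ⊗ₜ[L] w)) =
      (TensorProduct.assoc L (N ⊗[L] O) O O).symm ((TensorProduct.assoc L N O (O ⊗[L] O)).symm
        (n ⊗ₜ[L] ((Coalgebra.comul (R := L) (A := O)).lTensor O w))) := by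
    intro w
    induction w using TensorProduct.induction_on with
    | zero => simp
    | tmul x y => simp [dlt_tmul]
    | add x y hx hy => simp only [tmul_add, map_add, hx, hy]
  have h2 : ∀ w : O ⊗[L] O, (dlt L O N).rTensor O ((TensorProduct.assoc L N O O).symm (n ⊗ₜ[L] w)) =
      (TensorProduct.assoc L (N ⊗[L] O) O O).symm ((TensorProduct.assoc L N O (O ⊗[L] O)).symm
        (n ⊗ₜ[L] (TensorProduct.assoc L O O O ((Coalgebra.comul (R := L) (A := O)).rTensor O w)))) := by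
    intro w
    induction w using TensorProduct.induction_on with
    | zero => simp
    | tmul x y =>
      simp only [TensorProduct.assoc_symm_tmul, LinearMap.rTensor_tmul, dlt_tmul]
      induction (Coalgebra.comul (R := L) x : O ⊗[L] O) using TensorProduct.induction_on with
      | zero => simp
      | tmul u v => simp
      | add u v hu hv => simp only [tmul_add, add_tmul, map_add, hu, hv]
    | add x y hx hy => simp only [tmul_add, map_add, hx, hy]
  rw [h1, h2, key]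

end Faces

section Diff

variable (ρ : M →ₗ[L] M ⊗[L] O)

/-- `d0 m = ρ m - m ⊗ 1` -/
noncomputable def d0 : M →ₗ[L] M ⊗[L] O := ρ - un L O M

/-- `d1 y = (ρ ⊗ 1) y - (1 ⊗ Δ) y + y ⊗ 1` -/
noncomputable def d1 : M ⊗[L] O →ₗ[L] (M ⊗[L] O) ⊗[L] O :=
  ρ.rTensor O - dlt L O M + un L O (M ⊗[L] O)

/-- `d2 z = (ρ ⊗ 1 ⊗ 1) z - (1 ⊗ Δ ⊗ 1) z + (1 ⊗ 1 ⊗ Δ) z - z ⊗ 1` -/
noncomputable def d2 : (M ⊗[L] O) ⊗[L] O →ₗ[L] ((M ⊗[L] O) ⊗[L] O) ⊗[L] O :=
  (ρ.rTensor O).rTensor O - (dlt L O M).rTensor O + dlt L O (M ⊗[L] O) - un L O ((M ⊗[L] O) ⊗[L] O)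

theorem d0_apply (m : M) : d0 ρ m = ρ m - m ⊗ₜ 1 := rfl

theorem d1_apply (y : M ⊗[L] O) : d1 ρ y = ρ.rTensor O y - dlt L O M y + y ⊗ₜ 1 := rfl

theorem d2_apply (z : (M ⊗[L] O) ⊗[L] O) :
    d2 ρ z = (ρ.rTensor O).rTensor O z - (dlt L O M).rTensor O z + dlt L O (M ⊗[L] O) z - z ⊗ₜ 1 := rfl

variable {ρ}

/-- `d1 ∘ d0 = 0` (coassociativity of the coaction) -/
theorem d1_comp_d0 (h : ρ.rTensor O ∘ₗ ρ = dlt L O M ∘ₗ ρ) : d1 ρ ∘ₗ d0 ρ = 0 := by
  have e1 := un_nat (O := O) ρ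
  have e2 : dlt L O M ∘ₗ un L O M = un L O (M ⊗[L] O) ∘ₗ un L O M := dlt_un
  simp only [d1, d0, LinearMap.comp_sub, LinearMap.add_comp, LinearMap.sub_comp, h, e1, e2]
  abel

/-- `d2 ∘ d1 = 0` -/
theorem d2_comp_d1 (h : ρ.rTensor O ∘ₗ ρ = dlt L O M ∘ₗ ρ) : d2 ρ ∘ₗ d1 ρ = 0 := by
  have e00 : (dlt L O M).rTensor O ∘ₗ ρ.rTensor O = (ρ.rTensor O).rTensor O ∘ₗ ρ.rTensor O := by
    rw [← LinearMap.rTensor_comp, ← LinearMap.rTensor_comp, h]
  have e20 := dlt_nat (O := O) ρ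
  have e30 := un_nat (O := O) (ρ.rTensor O)
  have e21 : dlt L O (M ⊗[L] O) ∘ₗ dlt L O M = (dlt L O M).rTensor O ∘ₗ dlt L O M := dlt_dlt
  have e31 := un_nat (O := O) (dlt L O M)
  have e32 : dlt L O (M ⊗[L] O) ∘ₗ un L O (M ⊗[L] O) = un L O ((M ⊗[L] O) ⊗[L] O) ∘ₗ un L O (M ⊗[L] O) := dlt_un
  simp only [d2, d1, LinearMap.comp_sub, LinearMap.comp_add, LinearMap.add_comp, LinearMap.sub_comp, e00, e20, e30,
    e21, e31, e32]
  abel

theorem d1_d0 (h : ρ.rTensor O ∘ₗ ρ = dlt L O M ∘ₗ ρ) (m : M) : d1 ρ (d0 ρ m) = 0 :=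
  LinearMap.congr_fun (d1_comp_d0 h) m

theorem d2_d1 (h : ρ.rTensor O ∘ₗ ρ = dlt L O M ∘ₗ ρ) (y : M ⊗[L] O) : d2 ρ (d1 ρ y) = 0 :=
  LinearMap.congr_fun (d2_comp_d1 h) y

/-! ### naturality -/

variable {ρ' : M' →ₗ[L] M' ⊗[L] O} {f : M →ₗ[L] M'}

theorem d0_nat (hf : ρ' ∘ₗ f = f.rTensor O ∘ₗ ρ) : d0 ρ' ∘ₗ f = f.rTensor O ∘ₗ d0 ρ := by
  rw [d0, d0, LinearMap.sub_comp, LinearMap.comp_sub, hf, un_nat (O := O) f]

theorem d1_nat (hf : ρ' ∘ₗ f = f.rTensor O ∘ₗ ρ) :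
    d1 ρ' ∘ₗ f.rTensor O = (f.rTensor O).rTensor O ∘ₗ d1 ρ := by
  have e0 : ρ'.rTensor O ∘ₗ f.rTensor O = (f.rTensor O).rTensor O ∘ₗ ρ.rTensor O := by
    rw [← LinearMap.rTensor_comp, ← LinearMap.rTensor_comp, hf]
  rw [d1, d1, LinearMap.add_comp, LinearMap.sub_comp, LinearMap.comp_add, LinearMap.comp_sub, e0, dlt_nat,
    un_nat (O := O) (f.rTensor O)]

theorem d2_nat (hf : ρ' ∘ₗ f = f.rTensor O ∘ₗ ρ) :
    d2 ρ' ∘ₗ (f.rTensor O).rTensor O = ((f.rTensor O).rTensor O).rTensor O ∘ₗ d2 ρ := by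
  have e0 : (ρ'.rTensor O).rTensor O ∘ₗ (f.rTensor O).rTensor O =
      ((f.rTensor O).rTensor O).rTensor O ∘ₗ (ρ.rTensor O).rTensor O := by
    rw [← LinearMap.rTensor_comp, ← LinearMap.rTensor_comp, ← LinearMap.rTensor_comp, ← LinearMap.rTensor_comp, hf]
  have e1 : (dlt L O M').rTensor O ∘ₗ (f.rTensor O).rTensor O =
      ((f.rTensor O).rTensor O).rTensor O ∘ₗ (dlt L O M).rTensor O := by
    rw [← LinearMap.rTensor_comp, ← LinearMap.rTensor_comp, dlt_nat]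
  rw [d2, d2, LinearMap.sub_comp, LinearMap.add_comp, LinearMap.sub_comp, LinearMap.comp_sub, LinearMap.comp_add,
    LinearMap.comp_sub, e0, e1, dlt_nat (O := O) (f.rTensor O), un_nat (O := O) ((f.rTensor O).rTensor O)]

end Diff

section Exact

variable {g : N →ₗ[L] M'} {f : M →ₗ[L] N}

theorem exact1 [Module.Flat L O] (h : Function.Exact f g) : Function.Exact (f.rTensor O) (g.rTensor O) :=
  Module.Flat.rTensor_exact O h

theorem exact2 [Module.Flat L O] (h : Function.Exact f g) :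
    Function.Exact ((f.rTensor O).rTensor O) ((g.rTensor O).rTensor O) :=
  Module.Flat.rTensor_exact O (Module.Flat.rTensor_exact O h)

theorem exact3 [Module.Flat L O] (h : Function.Exact f g) :
    Function.Exact (((f.rTensor O).rTensor O).rTensor O) (((g.rTensor O).rTensor O).rTensor O) :=
  Module.Flat.rTensor_exact O (Module.Flat.rTensor_exact O (Module.Flat.rTensor_exact O h))

theorem inj1 [Module.Flat L O] (h : Function.Injective f) : Function.Injective (f.rTensor O) :=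
  Module.Flat.rTensor_preserves_injective_linearMap f h

theorem inj2 [Module.Flat L O] (h : Function.Injective f) : Function.Injective ((f.rTensor O).rTensor O) :=
  inj1 (inj1 h)

theorem inj3 [Module.Flat L O] (h : Function.Injective f) :
    Function.Injective (((f.rTensor O).rTensor O).rTensor O) := inj1 (inj1 (inj1 h))

theorem surj1 (h : Function.Surjective f) : Function.Surjective (f.rTensor O) := LinearMap.rTensor_surjective O h

theorem surj2 (h : Function.Surjective f) : Function.Surjective ((f.rTensor O).rTensor O) := surj1 (surj1 h)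

theorem surj3 (h : Function.Surjective f) : Function.Surjective (((f.rTensor O).rTensor O).rTensor O) :=
  surj1 (surj1 (surj1 h))

end Exact

end K458.Coch
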