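import Groth.Agent.ResProp.EF.K458.Coch
import Mathlib.RingTheory.Bialgebra.Basic
import Mathlib.RingTheory.TensorProduct.Maps
import Mathlib.RingTheory.TensorProduct.Basic

/-!
# Values of Hochschild cochains at points

`g, h, k : O →ₐ[L] B` points of the group with values in a commutative `L`-algebra `B`.
* `act ρ g : M ⊗ B → M ⊗ B` the action of `g`, `conv g h = (g ⊗ h) ∘ Δ` the product;
* `ev1 g y`, `ev2 g h z`, `ev3 g h k w` the values in `M ⊗ B`;
* `(d0 m)(g) = g m - m`, `(d1 y)(g, h) = g y(h) - y(gh) + y(g)`,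
  `(d2 z)(g, h, k) = g z(h, k) - z(gh, k) + z(g, hk) - z(g, h)`;
* `ev1_injective`, `ev2_injective`, `ev3_injective`: the values at the universal point determine the cochain, and
  every element of `M ⊗ O^(⊗ j)` is the value of a cochain at the universal point.
-/

set_option autoImplicit false
set_option maxSynthPendingDepth 6

open TensorProduct

namespace K458.Coch

variable {L : Type*} [CommRing L] {O : Type*} [CommRing O] [Bialgebra L O]
variable {M : Type*} [AddCommGroup M] [Module L M]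
variable {B : Type*} [CommRing B] [Algebra L B]

/-- the product of two points -/
noncomputable def conv (g h : O →ₐ[L] B) : O →ₐ[L] B :=
  (Algebra.TensorProduct.lift g h fun _ _ => Commute.all _ _).comp (Bialgebra.comulAlgHom L O)

theorem conv_apply (g h : O →ₐ[L] B) (a : O) :
    conv g h a = Algebra.TensorProduct.lift g h (fun _ _ => Commute.all _ _) (Coalgebra.comul (R := L) a) := rfl

variable (M) in
/-- `m ⊗ b ⊗ b' ↦ m ⊗ b b'` -/
noncomputable def mulB : (M ⊗[L] B) ⊗[L] B →ₗ[L] M ⊗[L] B :=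
  (LinearMap.mul' L B).lTensor M ∘ₗ (TensorProduct.assoc L M B B).toLinearMap

@[simp] theorem mulB_tmul (m : M) (b b' : B) : mulB (L := L) M ((m ⊗ₜ b) ⊗ₜ b') = m ⊗ₜ[L] (b * b') := rfl

/-- the value of a `1`-cochain -/
noncomputable def ev1 (g : O →ₐ[L] B) : M ⊗[L] O →ₗ[L] M ⊗[L] B := g.toLinearMap.lTensor M

@[simp] theorem ev1_tmul (g : O →ₐ[L] B) (m : M) (a : O) : ev1 g (m ⊗ₜ[L] a) = m ⊗ₜ[L] g a := rfl

/-- the value of a `2`-cochain -/
noncomputable def ev2 (g h : O →ₐ[L] B) : (M ⊗[L] O) ⊗[L] O →ₗ[L] M ⊗[L] B :=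
  mulB M ∘ₗ TensorProduct.map (ev1 g) h.toLinearMap

@[simp] theorem ev2_tmul (g h : O →ₐ[L] B) (y : M ⊗[L] O) (a : O) :
    ev2 g h (y ⊗ₜ[L] a) = mulB M (ev1 g y ⊗ₜ[L] h a) := rfl

/-- the value of a `3`-cochain -/
noncomputable def ev3 (g h k : O →ₐ[L] B) : ((M ⊗[L] O) ⊗[L] O) ⊗[L] O →ₗ[L] M ⊗[L] B :=
  mulB M ∘ₗ TensorProduct.map (ev2 g h) k.toLinearMap

@[simp] theorem ev3_tmul (g h k : O →ₐ[L] B) (z : (M ⊗[L] O) ⊗[L] O) (a : O) :
    ev3 g h k (z ⊗ₜ[L] a) = mulB M (ev2 g h z ⊗ₜ[L] k a) := rfl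

/-- the action of a point -/
noncomputable def act (ρ : M →ₗ[L] M ⊗[L] O) (g : O →ₐ[L] B) : M ⊗[L] B →ₗ[L] M ⊗[L] B :=
  mulB M ∘ₗ (ev1 g ∘ₗ ρ).rTensor B

@[simp] theorem act_tmul (ρ : M →ₗ[L] M ⊗[L] O) (g : O →ₐ[L] B) (m : M) (b : B) :
    act ρ g (m ⊗ₜ[L] b) = mulB M (ev1 g (ρ m) ⊗ₜ[L] b) := rfl

theorem mulB_mulB (w : M ⊗[L] B) (b b' : B) :
    mulB (L := L) M (mulB M (w ⊗ₜ[L] b) ⊗ₜ[L] b') = mulB M (w ⊗ₜ[L] (b * b')) := by
  induction w using TensorProduct.induction_on with
  | zero => simp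
  | tmul m c => simp [mul_assoc]
  | add x y hx hy => simp only [add_tmul, map_add, hx, hy]

@[simp] theorem mulB_one (w : M ⊗[L] B) : mulB (L := L) M (w ⊗ₜ[L] (1 : B)) = w := by
  induction w using TensorProduct.induction_on with
  | zero => simp
  | tmul m c => simp
  | add x y hx hy => simp only [add_tmul, map_add, hx, hy]

/-- the action is `B`-linear -/
theorem act_mulB (ρ : M →ₗ[L] M ⊗[L] O) (g : O →ₐ[L] B) (w : M ⊗[L] B) (b : B) :
    act ρ g (mulB M (w ⊗ₜ[L] b)) = mulB M (act ρ g w ⊗ₜ[L] b) := by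
  induction w using TensorProduct.induction_on with
  | zero => simp
  | tmul m c => simp [mulB_mulB]
  | add x y hx hy => simp only [add_tmul, map_add, hx, hy]

/-! ### the faces -/

theorem ev1_rho (ρ : M →ₗ[L] M ⊗[L] O) (g : O →ₐ[L] B) (m : M) : ev1 g (ρ m) = act ρ g (m ⊗ₜ 1) := by simp

theorem ev2_rT (ρ : M →ₗ[L] M ⊗[L] O) (g h : O →ₐ[L] B) (y : M ⊗[L] O) :
    ev2 g h (ρ.rTensor O y) = act ρ g (ev1 h y) := by
  induction y using TensorProduct.induction_on with
  | zero => simp
  | tmul m a => simp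
  | add x y hx hy => simp only [map_add, hx, hy]

theorem ev2_dlt (g h : O →ₐ[L] B) (y : M ⊗[L] O) : ev2 g h (dlt L O M y) = ev1 (conv g h) y := by
  induction y using TensorProduct.induction_on with
  | zero => simp
  | tmul m a =>
    rw [dlt_tmul, ev1_tmul, conv_apply]
    induction (Coalgebra.comul (R := L) a : O ⊗[L] O) using TensorProduct.induction_on with
    | zero => simp
    | tmul u v => simp
    | add u v hu hv => simp only [tmul_add, map_add, hu, hv]
  | add x y hx hy => simp only [map_add, hx, hy]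

theorem ev2_un (g h : O →ₐ[L] B) (y : M ⊗[L] O) : ev2 g h (y ⊗ₜ[L] 1) = ev1 g y := by simp

theorem ev3_rT (ρ : M →ₗ[L] M ⊗[L] O) (g h k : O →ₐ[L] B) (z : (M ⊗[L] O) ⊗[L] O) :
    ev3 g h k ((ρ.rTensor O).rTensor O z) = act ρ g (ev2 h k z) := by
  induction z using TensorProduct.induction_on with
  | zero => simp
  | tmul y a => simp [ev2_rT, act_mulB]
  | add x y hx hy => simp only [map_add, hx, hy]

theorem ev3_dlt_rT (g h k : O →ₐ[L] B) (z : (M ⊗[L] O) ⊗[L] O) :
    ev3 g h k ((dlt L O M).rTensor O z) = ev2 (conv g h) k z := by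
  induction z using TensorProduct.induction_on with
  | zero => simp
  | tmul y a => simp [ev2_dlt]
  | add x y hx hy => simp only [map_add, hx, hy]

theorem ev3_dlt (g h k : O →ₐ[L] B) (z : (M ⊗[L] O) ⊗[L] O) :
    ev3 g h k (dlt L O (M ⊗[L] O) z) = ev2 g (conv h k) z := by
  induction z using TensorProduct.induction_on with
  | zero => simp
  | tmul y a =>
    rw [dlt_tmul, ev2_tmul, conv_apply]
    induction (Coalgebra.comul (R := L) a : O ⊗[L] O) using TensorProduct.induction_on with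
    | zero => simp
    | tmul u v => simp [mulB_mulB]
    | add u v hu hv => simp only [tmul_add, map_add, hu, hv]
  | add x y hx hy => simp only [map_add, hx, hy]

theorem ev3_un (g h k : O →ₐ[L] B) (z : (M ⊗[L] O) ⊗[L] O) : ev3 g h k (z ⊗ₜ[L] 1) = ev2 g h z := by simp

/-! ### the differentials -/

theorem ev1_d0 (ρ : M →ₗ[L] M ⊗[L] O) (g : O →ₐ[L] B) (m : M) :
    ev1 g (d0 ρ m) = act ρ g (m ⊗ₜ 1) - m ⊗ₜ 1 := by
  rw [d0_apply, map_sub, ev1_rho, ev1_tmul, map_one]

theorem ev2_d1 (ρ : M →ₗ[L] M ⊗[L] O) (g h : O →ₐ[L] B) (y : M ⊗[L] O) :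
    ev2 g h (d1 ρ y) = act ρ g (ev1 h y) - ev1 (conv g h) y + ev1 g y := by
  rw [d1_apply, map_add, map_sub, ev2_rT, ev2_dlt, ev2_un]

theorem ev3_d2 (ρ : M →ₗ[L] M ⊗[L] O) (g h k : O →ₐ[L] B) (z : (M ⊗[L] O) ⊗[L] O) :
    ev3 g h k (d2 ρ z) = act ρ g (ev2 h k z) - ev2 (conv g h) k z + ev2 g (conv h k) z - ev2 g h z := by
  rw [d2_apply, map_sub, map_add, map_sub, ev3_rT, ev3_dlt_rT, ev3_dlt, ev3_un]

/-! ### the universal points -/

theorem ev1_id (y : M ⊗[L] O) : ev1 (AlgHom.id L O) y = y := by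
  induction y using TensorProduct.induction_on with
  | zero => simp
  | tmul m a => simp
  | add x y hx hy => simp only [map_add, hx, hy]

/-- the two universal points over `O ⊗ O` -/
theorem ev2_univ (z : (M ⊗[L] O) ⊗[L] O) :
    ev2 (Algebra.TensorProduct.includeLeft : O →ₐ[L] O ⊗[L] O) Algebra.TensorProduct.includeRight z =
      TensorProduct.assoc L M O O z := by
  induction z using TensorProduct.induction_on with
  | zero => simp
  | tmul y a =>
    induction y using TensorProduct.induction_on with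
    | zero => simp
    | tmul m b => simp
    | add x y hx hy => simp only [add_tmul, map_add, hx, hy]
  | add x y hx hy => simp only [map_add, hx, hy]

/-- the three universal points over `(O ⊗ O) ⊗ O` -/
noncomputable def u1 : O →ₐ[L] (O ⊗[L] O) ⊗[L] O :=
  (Algebra.TensorProduct.includeLeft : (O ⊗[L] O) →ₐ[L] (O ⊗[L] O) ⊗[L] O).comp Algebra.TensorProduct.includeLeft

noncomputable def u2 : O →ₐ[L] (O ⊗[L] O) ⊗[L] O :=
  (Algebra.TensorProduct.includeLeft : (O ⊗[L] O) →ₐ[L] (O ⊗[L] O) ⊗[L] O).comp Algebra.TensorProduct.includeRight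

noncomputable def u3 : O →ₐ[L] (O ⊗[L] O) ⊗[L] O := Algebra.TensorProduct.includeRight

theorem ev3_univ (z : ((M ⊗[L] O) ⊗[L] O) ⊗[L] O) :
    ev3 (B := (O ⊗[L] O) ⊗[L] O) u1 u2 u3 z =
      TensorProduct.assoc L M (O ⊗[L] O) O ((TensorProduct.assoc L M O O).toLinearMap.rTensor O z) := by
  induction z using TensorProduct.induction_on with
  | zero => simp
  | tmul y a =>
    induction y using TensorProduct.induction_on with
    | zero => simp
    | tmul y b =>
      induction y using TensorProduct.induction_on with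
      | zero => simp
      | tmul m c => simp [u1, u2, u3]
      | add x y hx hy => simp only [add_tmul, map_add, hx, hy]
    | add x y hx hy => simp only [add_tmul, map_add, hx, hy]
  | add x y hx hy => simp only [map_add, hx, hy]

theorem ev2_ext {z z' : (M ⊗[L] O) ⊗[L] O}
    (h : ev2 (Algebra.TensorProduct.includeLeft : O →ₐ[L] O ⊗[L] O) Algebra.TensorProduct.includeRight z =
      ev2 (Algebra.TensorProduct.includeLeft : O →ₐ[L] O ⊗[L] O) Algebra.TensorProduct.includeRight z') : z = z' := by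
  rw [ev2_univ, ev2_univ] at h
  exact (TensorProduct.assoc L M O O).injective h

theorem ev3_ext {z z' : ((M ⊗[L] O) ⊗[L] O) ⊗[L] O}
    (h : ev3 (B := (O ⊗[L] O) ⊗[L] O) u1 u2 u3 z = ev3 u1 u2 u3 z') : z = z' := by
  rw [ev3_univ, ev3_univ] at h
  have h1 := (TensorProduct.assoc L M (O ⊗[L] O) O).injective h
  have h2 : Function.Injective ((TensorProduct.assoc L M O O).toLinearMap.rTensor O) :=
    (LinearEquiv.rTensor O (TensorProduct.assoc L M O O)).injective
  exact h2 h1

/-- a `1`-cochain is a cocycle iff `y(gh) = g y(h) + y(g)` for all points -/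
theorem d1_eq_zero_iff (ρ : M →ₗ[L] M ⊗[L] O) (y : M ⊗[L] O) : d1 ρ y = 0 ↔
    ev1 (conv (Algebra.TensorProduct.includeLeft : O →ₐ[L] O ⊗[L] O) Algebra.TensorProduct.includeRight) y =
      act ρ (Algebra.TensorProduct.includeLeft : O →ₐ[L] O ⊗[L] O)
        (ev1 (Algebra.TensorProduct.includeRight : O →ₐ[L] O ⊗[L] O) y) +
      ev1 (Algebra.TensorProduct.includeLeft : O →ₐ[L] O ⊗[L] O) y := by
  constructor
  · intro h
    have := ev2_d1 ρ (Algebra.TensorProduct.includeLeft : O →ₐ[L] O ⊗[L] O) Algebra.TensorProduct.includeRight y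
    rw [h, map_zero] at this
    rw [eq_comm, sub_add_eq_add_sub, sub_eq_zero] at this
    exact this.symm
  · intro h
    refine ev2_ext ?_
    rw [ev2_d1, h, map_zero]
    abel

/-- a `2`-cochain is a cocycle iff it satisfies the cocycle identity at the universal point -/
theorem d2_eq_zero_iff (ρ : M →ₗ[L] M ⊗[L] O) (z : (M ⊗[L] O) ⊗[L] O) : d2 ρ z = 0 ↔
    act ρ (B := (O ⊗[L] O) ⊗[L] O) u1 (ev2 u2 u3 z) + ev2 u1 (conv u2 u3) z = ev2 (conv u1 u2) u3 z + ev2 u1 u2 z := by
  constructor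
  · intro h
    have := ev3_d2 ρ (B := (O ⊗[L] O) ⊗[L] O) u1 u2 u3 z
    rw [h, map_zero] at this
    rw [← sub_eq_zero, this]
    abel
  · intro h
    refine ev3_ext ?_
    rw [ev3_d2, map_zero]
    rw [← sub_eq_zero] at h
    rw [← h]
    abel

/-! ### functoriality in `B` -/

variable {B' : Type*} [CommRing B'] [Algebra L B'] (φ : B →ₐ[L] B')

theorem ev1_map (g : O →ₐ[L] B) (y : M ⊗[L] O) : φ.toLinearMap.lTensor M (ev1 g y) = ev1 (φ.comp g) y := by
  induction y using TensorProduct.induction_on with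
  | zero => simp
  | tmul m a => simp
  | add x y hx hy => simp only [map_add, hx, hy]

theorem mulB_map (w : M ⊗[L] B) (b : B) :
    φ.toLinearMap.lTensor M (mulB M (w ⊗ₜ[L] b)) = mulB M (φ.toLinearMap.lTensor M w ⊗ₜ[L] φ b) := by
  induction w using TensorProduct.induction_on with
  | zero => simp
  | tmul m c => simp
  | add x y hx hy => simp only [add_tmul, map_add, hx, hy]

theorem ev2_map (g h : O →ₐ[L] B) (z : (M ⊗[L] O) ⊗[L] O) :
    φ.toLinearMap.lTensor M (ev2 g h z) = ev2 (φ.comp g) (φ.comp h) z := by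
  induction z using TensorProduct.induction_on with
  | zero => simp
  | tmul y a => rw [ev2_tmul, mulB_map, ev1_map, ev2_tmul]; rfl
  | add x y hx hy => simp only [map_add, hx, hy]

theorem ev3_map (g h k : O →ₐ[L] B) (z : ((M ⊗[L] O) ⊗[L] O) ⊗[L] O) :
    φ.toLinearMap.lTensor M (ev3 g h k z) = ev3 (φ.comp g) (φ.comp h) (φ.comp k) z := by
  induction z using TensorProduct.induction_on with
  | zero => simp
  | tmul y a => rw [ev3_tmul, mulB_map, ev2_map, ev3_tmul]; rfl
  | add x y hx hy => simp only [map_add, hx, hy]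

theorem act_map (ρ : M →ₗ[L] M ⊗[L] O) (g : O →ₐ[L] B) (w : M ⊗[L] B) :
    φ.toLinearMap.lTensor M (act ρ g w) = act ρ (φ.comp g) (φ.toLinearMap.lTensor M w) := by
  induction w using TensorProduct.induction_on with
  | zero => simp
  | tmul m b => rw [act_tmul, mulB_map, ev1_map]; simp
  | add x y hx hy => simp only [map_add, hx, hy]

/-- `(gh) w = g (h w)` -/
theorem act_conv {ρ : M →ₗ[L] M ⊗[L] O} (hρ : ρ.rTensor O ∘ₗ ρ = dlt L O M ∘ₗ ρ) (g h : O →ₐ[L] B) (w : M ⊗[L] B) :
    act ρ (conv g h) w = act ρ g (act ρ h w) := by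
  induction w using TensorProduct.induction_on with
  | zero => simp
  | tmul m b =>
    rw [act_tmul, act_tmul, act_mulB, ← ev2_rT, ← ev2_dlt]
    have := LinearMap.congr_fun hρ m
    simp only [LinearMap.comp_apply] at this
    rw [this]
  | add x y hx hy => simp only [map_add, hx, hy]

/-- the unit acts trivially -/
theorem act_unit {ρ : M →ₗ[L] M ⊗[L] O}
    (hε : (Coalgebra.counit (R := L) (A := O)).lTensor M ∘ₗ ρ = (TensorProduct.mk L M L).flip 1) (w : M ⊗[L] B) :
    act ρ ((Algebra.ofId L B).comp (Bialgebra.counitAlgHom L O)) w = w := by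
  induction w using TensorProduct.induction_on with
  | zero => simp
  | tmul m b =>
    have h1 : ev1 ((Algebra.ofId L B).comp (Bialgebra.counitAlgHom L O)) (ρ m) = m ⊗ₜ[L] (1 : B) := by
      have h2 := LinearMap.congr_fun hε m
      have h3 : ∀ y : M ⊗[L] O, ev1 ((Algebra.ofId L B).comp (Bialgebra.counitAlgHom L O)) y =
          (Algebra.linearMap L B).lTensor M ((Coalgebra.counit (R := L) (A := O)).lTensor M y) := by
        intro y
        induction y using TensorProduct.induction_on with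
        | zero => simp
        | tmul m a => rfl
        | add x y hx hy => simp only [map_add, hx, hy]
      rw [h3]
      simp only [LinearMap.comp_apply] at h2
      rw [h2]
      simp
    rw [act_tmul, h1, mulB_tmul, one_mul]
  | add x y hx hy => simp only [map_add, hx, hy]

end K458.Coch
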