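import Mathlib.CategoryTheory.Abelian.SerreClass.Basic
import Mathlib.Algebra.Homology.ShortComplex.HomologicalComplex
import Mathlib.CategoryTheory.Abelian.Images
import Mathlib.Algebra.Homology.ShortComplex.Abelian

/-!
# The extension closure of a class of objects closed under subobjects and quotients

`EC P` : the smallest class of objects of an abelian category which contains the zero objects and `P` and is closed
under extensions. If `P` is closed under subobjects and quotients, `EC P` is a Serre class (`EC.isSerreClass`); the
homology of a complex with terms in `EC P` is in `EC P` (`EC.homology`).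
-/

set_option autoImplicit false

universe v u

open CategoryTheory CategoryTheory.Limits ZeroObject

namespace K458.EF

variable {C : Type u} [Category.{v} C] [Abelian C]

/-- the smallest class containing the zero objects and `P`, closed under extensions -/
inductive EC (P : ObjectProperty C) : ObjectProperty C
  | zero {X : C} (h : IsZero X) : EC P X
  | of {X : C} (h : P X) : EC P X
  | ext {S : ShortComplex C} (hS : S.ShortExact) (h₁ : EC P S.X₁) (h₃ : EC P S.X₃) : EC P S.X₂

namespace EC

variable {P : ObjectProperty C}

/-- every map factors as an epimorphism followed by a monomorphism, giving a short exact sequence with the kernel -/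
theorem shortExact_kernel_image {X Y : C} (f : X ⟶ Y) :
    (ShortComplex.mk (kernel.ι f) (factorThruImage f)
      (by rw [← cancel_mono (image.ι f), Category.assoc, image.fac, kernel.condition, zero_comp])).ShortExact := by
  refine ShortComplex.ShortExact.mk' ?_ inferInstance inferInstance
  refine ShortComplex.exact_of_f_is_kernel _ ?_
  refine KernelFork.IsLimit.ofι _ _ (fun g hg => kernel.lift f g ?_) (fun g hg => kernel.lift_ι _ _ _) ?_
  · rw [← image.fac f, ← Category.assoc, hg, zero_comp]
  · intro W g hg m hm
    rw [← cancel_mono (kernel.ι f), hm, kernel.lift_ι]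

theorem shortExact_image_cokernel {X Y : C} (f : X ⟶ Y) :
    (ShortComplex.mk (image.ι f) (cokernel.π f)
      (by rw [← cancel_epi (factorThruImage f), ← Category.assoc, image.fac, cokernel.condition,
        comp_zero])).ShortExact := by
  refine ShortComplex.ShortExact.mk' ?_ inferInstance inferInstance
  refine ShortComplex.exact_of_g_is_cokernel _ ?_
  refine CokernelCofork.IsColimit.ofπ _ _ (fun g hg => cokernel.desc f g ?_) (fun g hg => cokernel.π_desc _ _ _) ?_
  · rw [← image.fac f, Category.assoc, hg, comp_zero]
  · intro W g hg m hm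
    rw [← cancel_epi (cokernel.π f), hm, cokernel.π_desc]

theorem prop_of_mono [P.IsClosedUnderSubobjects] {X : C} (hX : EC P X) :
    ∀ {Y : C} (f : Y ⟶ X) [Mono f], EC P Y := by
  induction hX with
  | zero h => exact fun f _ => .zero (IsZero.of_mono f h)
  | of h => exact fun f _ => .of (P.prop_of_mono f h)
  | @ext S hS h₁ h₃ ih₁ ih₃ =>
    intro Y f _
    refine EC.ext (shortExact_kernel_image (f ≫ S.g)) ?_ (ih₃ (image.ι (f ≫ S.g)))
    have := hS.mono_f
    let k : kernel (f ≫ S.g) ⟶ S.X₁ := hS.exact.lift (kernel.ι (f ≫ S.g) ≫ f) (by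
      rw [Category.assoc, kernel.condition])
    have hk : k ≫ S.f = kernel.ι (f ≫ S.g) ≫ f := hS.exact.lift_f _ _
    have : Mono (k ≫ S.f) := by rw [hk]; infer_instance
    have : Mono k := mono_of_mono k S.f
    exact ih₁ k

theorem prop_of_epi [P.IsClosedUnderQuotients] {X : C} (hX : EC P X) :
    ∀ {Y : C} (f : X ⟶ Y) [Epi f], EC P Y := by
  induction hX with
  | zero h => exact fun f _ => .zero (IsZero.of_epi f h)
  | of h => exact fun f _ => .of (P.prop_of_epi f h)
  | @ext S hS h₁ h₃ ih₁ ih₃ =>
    intro Y f _
    refine EC.ext (shortExact_image_cokernel (S.f ≫ f)) (ih₁ (factorThruImage (S.f ≫ f))) ?_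
    have := hS.epi_g
    let k : S.X₃ ⟶ cokernel (S.f ≫ f) := hS.exact.desc (f ≫ cokernel.π (S.f ≫ f)) (by
      rw [← Category.assoc, cokernel.condition])
    have hk : S.g ≫ k = f ≫ cokernel.π (S.f ≫ f) := hS.exact.g_desc _ _
    have : Epi (S.g ≫ k) := by rw [hk]; infer_instance
    have : Epi k := epi_of_epi S.g k
    exact ih₃ k

instance isSerreClass [P.IsClosedUnderSubobjects] [P.IsClosedUnderQuotients] : (EC P).IsSerreClass where
  exists_zero := ⟨0, isZero_zero C, .zero (isZero_zero C)⟩
  prop_of_mono f _ h := h.prop_of_mono f
  prop_of_epi f _ h := h.prop_of_epi f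
  prop_X₂_of_shortExact hS h₁ h₃ := .ext hS h₁ h₃

/-- induction principle -/
theorem induct {Q : C → Prop} (h0 : ∀ X, IsZero X → Q X) (hP : ∀ X, P X → Q X)
    (hext : ∀ S : ShortComplex C, S.ShortExact → Q S.X₁ → Q S.X₃ → Q S.X₂) {X : C} (hX : EC P X) : Q X := by
  induction hX with
  | zero h => exact h0 _ h
  | of h => exact hP _ h
  | ext hS _ _ ih₁ ih₃ => exact hext _ hS ih₁ ih₃

/-- monotonicity -/
theorem mono {P' : ObjectProperty C} (h : ∀ X, P X → P' X) {X : C} (hX : EC P X) : EC P' X :=
  hX.induct (fun _ => .zero) (fun X hX => .of (h X hX)) fun _ hS => .ext hS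

/-- an exact functor maps `EC P` to `EC P'` if it maps `P` to `P'` -/
theorem map {D : Type*} [Category D] [Abelian D] {P' : ObjectProperty D} (F : C ⥤ D) [F.Additive]
    [PreservesFiniteLimits F] [PreservesFiniteColimits F] (h : ∀ X, P X → P' (F.obj X)) {X : C} (hX : EC P X) :
    EC P' (F.obj X) := by
  refine hX.induct (Q := fun X => EC P' (F.obj X)) (fun X hX => .zero (F.map_isZero hX)) (fun X hX => .of (h X hX)) ?_
  intro S hS h₁ h₃
  exact EC.ext (hS.map_of_exact F) h₁ h₃

end EC

section Homology

variable (P : ObjectProperty C) [P.IsSerreClass]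

/-- the homology of a short complex whose middle term is in a Serre class is in the Serre class -/
theorem prop_homology {S : ShortComplex C} (h : P S.X₂) : P S.homology :=
  P.prop_of_epi S.homologyπ (P.prop_of_mono S.iCycles h)

theorem prop_cycles {S : ShortComplex C} (h : P S.X₂) : P S.cycles := P.prop_of_mono S.iCycles h

theorem prop_opcycles {S : ShortComplex C} (h : P S.X₂) : P S.opcycles := P.prop_of_epi S.pOpcycles h

/-- the homology of a complex with terms in a Serre class -/
theorem prop_homology' {ι : Type*} {c : ComplexShape ι} (K : HomologicalComplex C c) (i : ι) (h : P (K.X i)) :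
    P (K.homology i) := prop_homology P (S := K.sc i) h

theorem prop_cycles' {ι : Type*} {c : ComplexShape ι} (K : HomologicalComplex C c) (i : ι) (h : P (K.X i)) :
    P (K.cycles i) := prop_cycles P (S := K.sc i) h

theorem prop_opcycles' {ι : Type*} {c : ComplexShape ι} (K : HomologicalComplex C c) (i : ι) (h : P (K.X i)) :
    P (K.opcycles i) := prop_opcycles P (S := K.sc i) h

end Homology

end K458.EF
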