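import Groth.Agent.ResProp.EF.K743.Iface
import Mathlib.LinearAlgebra.Matrix.Determinant.Basic
import Mathlib.LinearAlgebra.Multilinear.Basic

/-!
# The frame locus is stable under the action of the groupoid (G1B, node INW)

`inW_act` : `F.InW φ → F.InW (F.act σ φ h)`.
-/

set_option autoImplicit false

universe u

open Groth.Agent.Grpsch.AffGrpd
open Groth.Agent.ResProp.EF.K743

namespace K458.InW

/-- multilinearity of the determinant in the rows -/
theorem det_sum_mul {T : Type*} [CommRing T] {r : ℕ} {N : Type*} [Fintype N] [DecidableEq N]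
    (c : Fin r → N → T) (B : N → Fin r → T) :
    Matrix.det (Matrix.of fun i a => ∑ k, c i k * B k a) =
      ∑ K : Fin r → N, (∏ i, c i (K i)) * Matrix.det (Matrix.of fun i a => B (K i) a) := by
  have h1 : (Matrix.of fun i a => ∑ k, c i k * B k a : Matrix (Fin r) (Fin r) T) =
      fun i => ∑ k, c i k • B k := by
    funext i a
    rw [Matrix.of_apply, Finset.sum_apply]
    rfl
  have h2 := (Matrix.detRowAlternating (n := Fin r) (R := T)).toMultilinearMap.map_sum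
    (fun (i : Fin r) (k : N) => c i k • B k)
  rw [h1]
  refine h2.trans (Finset.sum_congr rfl fun K _ => ?_)
  have h3 := (Matrix.detRowAlternating (n := Fin r) (R := T)).toMultilinearMap.map_smul_univ
    (fun i => c i (K i)) (fun i => B (K i))
  exact h3

variable {A Γ : Type u} [CommRing A] [CommRing Γ] {G : RGrpd A Γ} {X : Gens G} {m : ℕ} (F : Frame G X m)

/-- going back with the inverse arrow -/
theorem act_inv {T : Type u} [CommRing T] (σ : Γ →+* T) (φ : F.D →+* T) (h : σ.comp G.s = φ.comp F.ι)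
    (h' : (σ.comp G.i).comp G.s = (F.act σ φ h).comp F.ι) : F.act (σ.comp G.i) (F.act σ φ h) h' = φ := by
  have e0 : (σ.comp G.i).comp G.s = σ.comp G.t := by rw [RingHom.comp_assoc, G.i_s]
  have e1 : G.comp (σ.comp G.i) σ e0 = (σ.comp G.s).comp G.e := G.i_comp σ
  have e2 : G.comp (σ.comp G.i) σ e0 = (φ.comp F.ι).comp G.e := by rw [e1, h]
  have e3 : ((φ.comp F.ι).comp G.e).comp G.s = φ.comp F.ι := by rw [RingHom.comp_assoc, G.e_s, RingHom.comp_id]
  have e4 : (G.comp (σ.comp G.i) σ e0).comp G.s = φ.comp F.ι := by rw [e2]; exact e3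
  rw [← F.act_comp (σ.comp G.i) σ φ h e0 e4 h']
  have e5 : ∀ (τ : Γ →+* T) (hτ : τ.comp G.s = φ.comp F.ι), τ = (φ.comp F.ι).comp G.e → F.act τ φ hτ = φ := by
    rintro τ hτ rfl
    exact F.act_id φ hτ
  exact e5 _ _ e2

/-- the minors of the old frame are combinations of the minors of the new one -/
theorem m₁_eq {T : Type u} [CommRing T] (σ : Γ →+* T) (φ : F.D →+* T) (h : σ.comp G.s = φ.comp F.ι)
    (I : Fin F.r₁ → Fin X.n) :
    F.act σ φ h (F.m₁ I) = ∑ K : Fin F.r₁ → Fin X.n, (∏ i, σ (G.i (X.c (K i) (I i)))) * φ (F.m₁ K) := by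
  have h1 : ∀ (ψ : F.D →+* T) (J : Fin F.r₁ → Fin X.n),
      ψ (F.m₁ J) = Matrix.det (Matrix.of fun i a => ψ (F.Q₁ (J i) a)) := by
    intro ψ J
    rw [FrameData.m₁, RingHom.map_det]
    rfl
  rw [h1]
  have h2 : (Matrix.of fun i a => F.act σ φ h (F.Q₁ (I i) a) : Matrix (Fin F.r₁) (Fin F.r₁) T) =
      Matrix.of fun i a => ∑ k, σ (G.i (X.c k (I i))) * φ (F.Q₁ k a) := by
    funext i a
    simp only [Matrix.of_apply, F.act_Q₁]
  rw [h2, det_sum_mul]
  refine Finset.sum_congr rfl fun K _ => ?_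
  rw [h1]

theorem Q₂_eq {T : Type u} [CommRing T] (σ : Γ →+* T) (φ : F.D →+* T) (h : σ.comp G.s = φ.comp F.ι)
    (J : Fin m → Fin X.n) (b : Fin F.r₂) :
    F.act σ φ h (F.Q₂ J b) = ∑ K : Fin m → Fin X.n, (∏ l, σ (G.i (X.c (K l) (J l)))) * φ (F.Q₂ K b) := by
  simp only [FrameData.Q₂, map_sum, map_mul, map_prod, F.act_Q₁, F.act_μ]
  have h1 : ∀ κ : Fin m → Fin F.r₁,
      (∏ i, ∑ k, σ (G.i (X.c k (J i))) * φ (F.Q₁ k (κ i))) =
        ∑ K : Fin m → Fin X.n, (∏ l, σ (G.i (X.c (K l) (J l)))) * ∏ l, φ (F.Q₁ (K l) (κ l)) := by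
    intro κ
    rw [Finset.prod_univ_sum]
    refine Finset.sum_congr ?_ fun K _ => ?_
    · exact Fintype.piFinset_univ
    · rw [Finset.prod_mul_distrib]
  simp only [h1, Finset.sum_mul, Finset.mul_sum]
  rw [Finset.sum_comm]
  refine Finset.sum_congr rfl fun K _ => Finset.sum_congr rfl fun κ _ => ?_
  ring

theorem m₂_eq {T : Type u} [CommRing T] (σ : Γ →+* T) (φ : F.D →+* T) (h : σ.comp G.s = φ.comp F.ι)
    (I : Fin F.r₂ → Fin m → Fin X.n) :
    F.act σ φ h (F.m₂ I) = ∑ K : Fin F.r₂ → Fin m → Fin X.n,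
      (∏ i, ∏ l, σ (G.i (X.c (K i l) (I i l)))) * φ (F.m₂ K) := by
  have h1 : ∀ (ψ : F.D →+* T) (J : Fin F.r₂ → Fin m → Fin X.n),
      ψ (F.m₂ J) = Matrix.det (Matrix.of fun i b => ψ (F.Q₂ (J i) b)) := by
    intro ψ J
    rw [FrameData.m₂, RingHom.map_det]
    rfl
  rw [h1]
  have h2 : (Matrix.of fun i b => F.act σ φ h (F.Q₂ (I i) b) : Matrix (Fin F.r₂) (Fin F.r₂) T) =
      Matrix.of fun i b => ∑ K : Fin m → Fin X.n, (∏ l, σ (G.i (X.c (K l) (I i l)))) * φ (F.Q₂ K b) := by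
    funext i b
    simp only [Matrix.of_apply, Q₂_eq]
  rw [h2, det_sum_mul (fun (i : Fin F.r₂) (K : Fin m → Fin X.n) => ∏ l, σ (G.i (X.c (K l) (I i l))))
    (fun K b => φ (F.Q₂ K b))]
  refine Finset.sum_congr rfl fun K _ => ?_
  rw [h1]

/-- the semi-invariants -/
theorem δ_mem {T : Type u} [CommRing T] (σ : Γ →+* T) (φ : F.D →+* T) (h : σ.comp G.s = φ.comp F.ι)
    (I : (Fin F.r₁ → Fin X.n) × (Fin F.r₂ → Fin m → Fin X.n)) :
    F.act σ φ h (F.δ I) ∈ Ideal.span (Set.range fun I => φ (F.δ I)) := by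
  rw [FrameData.δ, map_mul, m₁_eq, m₂_eq, Finset.sum_mul_sum]
  refine Ideal.sum_mem _ fun K _ => Ideal.sum_mem _ fun L _ => ?_
  have : (∏ i, σ (G.i (X.c (K i) (I.1 i)))) * φ (F.m₁ K) * ((∏ i, ∏ l, σ (G.i (X.c (L i l) (I.2 i l)))) * φ (F.m₂ L)) =
      ((∏ i, σ (G.i (X.c (K i) (I.1 i)))) * (∏ i, ∏ l, σ (G.i (X.c (L i l) (I.2 i l))))) * φ (F.δ (K, L)) := by
    rw [FrameData.δ, map_mul]
    ring
  rw [this]
  exact Ideal.mul_mem_left _ _ (Ideal.subset_span ⟨(K, L), rfl⟩)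

theorem span_le {T : Type u} [CommRing T] (σ : Γ →+* T) (φ : F.D →+* T) (h : σ.comp G.s = φ.comp F.ι) :
    Ideal.span (Set.range fun I => F.act σ φ h (F.δ I)) ≤ Ideal.span (Set.range fun I => φ (F.δ I)) := by
  rw [Ideal.span_le]
  rintro _ ⟨I, rfl⟩
  exact δ_mem F σ φ h I

/-- **INW**: the frame locus is stable under the action -/
theorem inW_act {T : Type u} [CommRing T] (σ : Γ →+* T) (φ : F.D →+* T) (h : σ.comp G.s = φ.comp F.ι)
    (hφ : F.InW φ) : F.InW (F.act σ φ h) := by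
  have h' : (σ.comp G.i).comp G.s = (F.act σ φ h).comp F.ι := by
    rw [F.act_ι, RingHom.comp_assoc, G.i_s]
  have h1 := span_le F (σ.comp G.i) (F.act σ φ h) h'
  rw [act_inv F σ φ h h'] at h1
  rw [FrameData.InW] at hφ ⊢
  rw [hφ] at h1
  exact top_le_iff.1 h1

/-- the frame locus does not change -/
theorem inW_act_iff {T : Type u} [CommRing T] (σ : Γ →+* T) (φ : F.D →+* T) (h : σ.comp G.s = φ.comp F.ι) :
    F.InW (F.act σ φ h) ↔ F.InW φ := by
  refine ⟨fun H => ?_, inW_act F σ φ h⟩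
  have h' : (σ.comp G.i).comp G.s = (F.act σ φ h).comp F.ι := by
    rw [F.act_ι, RingHom.comp_assoc, G.i_s]
  have h1 := inW_act F (σ.comp G.i) (F.act σ φ h) h' H
  rwa [act_inv F σ φ h h'] at h1

end K458.InW
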